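import Groth.Agent.Deform.Luna.RuImage
import Groth.Agent.Deform.Borel.Cartan
import Groth.Agent.Deform.QuotImage
import Groth.Agent.GrpSchLib.AdjointQuot

/-! A torus which is the image of a group without tori is trivial. -/

set_option autoImplicit false
set_option linter.style.haveILetI false
set_option maxHeartbeats 1000000

universe u

open CategoryTheory CategoryTheory.Limits MonoidalCategory CartesianMonoidalCategory MonObj AlgebraicGeometry

attribute [local instance] CategoryTheory.Hom.monoid CategoryTheory.Hom.group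

noncomputable section

namespace Groth.Agent.Deform.WeilKer

open Chev (Pt pimg)

variable {k : Type u} [Field k] [IsAlgClosed k]

/-- **A torus which is the image of a group without subtori is trivial.** -/
theorem isTrivialGrp_of_surjective {M T : Over (Spec (CommRingCat.of k))} [GrpObj M] [GrpObj T]
    [IsAffine M.left] [LocallyOfFiniteType M.hom] (hM : Red.HasNoSubtorus k M) (hT : Red.IsTorus T)
    (v : M ⟶ T) [IsMonHom v] [Surjective v.left] : Red.IsTrivialGrp T := by
  classical
  obtain ⟨hTa, hTl, hTs, hTc⟩ := Deform.TorusBasic.props hT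
  haveI := hTa; haveI := hTl; haveI := hTs; haveI := hTc
  haveI : IsAffineHom T.hom := isAffineHom_of_isAffine _
  haveI : IsAffineHom M.hom := isAffineHom_of_isAffine _
  obtain ⟨J, gJ, j, hj, hjc, hJs, hJq, hJc, -, ⟨s, hs⟩, -⟩ :=
    Borel.exists_neutral_fin (G := M) ⊤ isClosed_univ (fun h => ⟨fun _ => Subgroup.mem_top h, fun _ => Set.mem_univ _⟩)
  haveI := hj; haveI := hjc; haveI := hJs; haveI := hJq; haveI := hJc
  haveI : Mono j := (Over.forget _).mono_of_mono_map (inferInstanceAs (Mono j.left))
  haveI : IsAffine J.left := isAffine_of_isAffineHom j.left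
  let w : J ⟶ T := j ≫ v
  haveI : IsMonHom w := inferInstanceAs (IsMonHom (j ≫ v))
  haveI : IsSeparated T.hom := inferInstance
  haveI : QuasiCompact w.left := by
    haveI : QuasiCompact (w.left ≫ T.hom) := by rw [Over.w w]; infer_instance
    exact QuasiCompact.of_comp w.left T.hom
  have hcl : IsClosed (Set.range w.left) := (QuotImage.isClosed_range_and_dim w).1
  let D : Pt M → Set T.left := fun r => (𝟙 T * (toUnit T ≫ (r ≫ v)⁻¹)).left ⁻¹' Set.range w.left
  have hpt : ∀ (t r : Pt T), t ≫ (𝟙 T * (toUnit T ≫ r)) = t * r := fun t r => by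
    rw [MonObj.comp_mul, Category.comp_id, ← Category.assoc, toUnit_unique (t ≫ toUnit T) (𝟙 _), Category.id_comp]
  have hcov : ∀ t : Pt T, ∃ r ∈ s, pimg t ∈ D r := fun t => by
    obtain ⟨m, rfl⟩ := Borel.exists_pt_over v t
    obtain ⟨r, hr, x, rfl⟩ := hs m (Subgroup.mem_top _)
    refine ⟨r, hr, ?_⟩
    show _ ∈ Set.range w.left
    rw [← Chev.pimg_comp, hpt, MonObj.mul_comp, mul_inv_cancel_right, Category.assoc]
    exact ⟨pimg x, rfl⟩
  have hDc : ∀ r, IsClosed (D r) := fun r => hcl.preimage (Scheme.Hom.continuous _)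
  have huniv : (⋃ r ∈ s, D r) = Set.univ := by
    by_contra hne
    have hcl' : IsClosed (⋃ r ∈ s, D r) := s.finite_toSet.isClosed_biUnion fun r _ => hDc r
    obtain ⟨g, hg⟩ := Chev.exists_pt (G := T) (S := (⋃ r ∈ s, D r)ᶜ)
      (Set.nonempty_compl.mpr hne) hcl'.isOpen_compl.isLocallyClosed
    obtain ⟨r, hr, hgr⟩ := hcov g
    exact hg (Set.mem_biUnion hr hgr)
  haveI : GeometricallyIrreducible T.hom := GrpSchLib.Adjoint.geometricallyIrreducible (G := T)
  haveI : IrreducibleSpace T.left := GeometricallyIrreducible.irreducibleSpace T.hom T.hom.isOpenMap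
  obtain ⟨r, hr, hη⟩ := Set.mem_iUnion₂.1 (huniv.ge (Set.mem_univ (genericPoint T.left)))
  have hD : D r = Set.univ := by
    refine Set.eq_univ_of_univ_subset ?_
    rw [← genericPoint_closure (α := T.left)]
    exact (hDc r).closure_subset_iff.2 (Set.singleton_subset_iff.2 hη)
  haveI : Surjective w.left := by
    refine ⟨fun y => ?_⟩
    by_contra hy
    obtain ⟨g, hg⟩ := Chev.exists_pt (G := T) (S := (Set.range w.left)ᶜ)
      ⟨y, fun ⟨x, hx⟩ => hy ⟨x, hx⟩⟩ hcl.isOpen_compl.isLocallyClosed
    have h := hD.ge (Set.mem_univ (pimg (g * (r ≫ v))))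
    change _ ∈ Set.range w.left at h
    rw [← Chev.pimg_comp, hpt, mul_inv_cancel_right] at h
    exact hg h
  have hJn : Red.HasNoSubtorus k J := fun U _ u _ _ hU => hM U (u ≫ j) hU
  exact Luna.hasNoSubtorus_image hJn w T (𝟙 T) hT

end Groth.Agent.Deform.WeilKer
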