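import Groth.Agent.Deform.WeilKer.Final
import Groth.Agent.Deform.WeilKer.ImageTorus
import Groth.Agent.Deform.WeilAff.LFT
import Groth.Agent.Deform.AntiAffineParts
import Groth.Agent.Deform.Luna.Quot
import Groth.Agent.GrpSchLib.RankOneBig
import Groth.Agent.GrpSchLib.MultTypeBC
import Groth.Agent.SrcDescent.SchemeFppf
import Mathlib.AlgebraicGeometry.Morphisms.FlatMono
import Groth.Prelude.Def_RedSub

/-! The quotient of a Weil restriction by the image of the comparison map. -/

set_option autoImplicit false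
set_option linter.style.haveILetI false
set_option maxHeartbeats 1000000

universe u

open CategoryTheory CategoryTheory.Limits MonoidalCategory CartesianMonoidalCategory AlgebraicGeometry MonObj

attribute [local instance] CategoryTheory.Hom.monoid CategoryTheory.Hom.group

noncomputable section

namespace Groth.Agent.Deform.WeilKer

open FrobDesc (yK)

/-- A closed immersion through which a faithfully flat morphism factors is an isomorphism. -/
theorem isIso_of_closed_factor {P J Q : Scheme.{u}} (d : P ⟶ J) (c : J ⟶ Q) [IsClosedImmersion c]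
    [IsLocallyNoetherian Q] [Flat (d ≫ c)] [Surjective (d ≫ c)] : IsIso c := by
  have hpb : IsPullback (𝟙 P) d (d ≫ c) c :=
    ⟨⟨by simp⟩, ⟨PullbackCone.IsLimit.mk _ (fun s => s.fst) (fun s => Category.comp_id _)
      (fun s => (cancel_mono c).1 (by rw [Category.assoc]; exact s.condition))
      (fun s m h _ => by simpa using h)⟩⟩
  haveI : Flat d := MorphismProperty.of_isPullback (P := @Flat) hpb ‹Flat (d ≫ c)›
  haveI : Surjective d := MorphismProperty.of_isPullback (P := @Surjective) hpb ‹Surjective (d ≫ c)›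
  haveI : Flat c := GrpSchLib.RankOne.flat_of_comp d c
  haveI : LocallyOfFinitePresentation c := inferInstance
  haveI : IsOpenImmersion c := IsOpenImmersion.of_flat_of_mono c
  haveI : Surjective c := Surjective.of_comp d c
  exact (isIso_iff_isOpenImmersion_and_surjective c).2 ⟨inferInstance, inferInstance⟩

theorem bc_map_isPullback {S S' : Scheme.{u}} (f : S' ⟶ S) {X Y : Over S} (g : X ⟶ Y) :
    IsPullback (pullback.fst X.hom f) ((Over.pullback f).map g).left g.left (pullback.fst Y.hom f) := by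
  refine IsPullback.of_bot ?_ (pullback.lift_fst _ _ _).symm (IsPullback.of_hasPullback Y.hom f)
  rw [show ((Over.pullback f).map g).left ≫ pullback.snd Y.hom f = pullback.snd X.hom f from Over.w _, Over.w g]
  exact IsPullback.of_hasPullback X.hom f

variable {k k' : Type u} [Field k] [Field k'] [Algebra k k'] [Module.Finite k k'] [IsPurelyInseparable k k']

theorem isMonHom_mul_inv {S : Scheme.{u}} {X B : Over S} [GrpObj X] [GrpObj B] [IsCommMonObj B] (a b : X ⟶ B)
    [IsMonHom a] [IsMonHom b] : IsMonHom (a * b⁻¹) :=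
  WittEndoLib.isMonHom_of_mul _ fun Z x y => by
    rw [MonObj.comp_mul, GrpObj.comp_inv, MonObj.mul_comp, MonObj.mul_comp, mul_inv, _root_.mul_mul_mul_comm,
      ← GrpObj.comp_inv, ← GrpObj.comp_inv, ← MonObj.comp_mul, ← MonObj.comp_mul]

/-- A commutative group which is the image of an affine group without subtori has none. -/
theorem hasNoSubtorus_of_surjective {Ω : Type u} [Field Ω] [IsAlgClosed Ω]
    {KΩ B : Over (Spec (CommRingCat.of Ω))} [GrpObj KΩ] [GrpObj B] [IsCommMonObj B] [IsAffine KΩ.left]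
    [LocallyOfFiniteType KΩ.hom] [LocallyOfFiniteType B.hom] (hKn : Red.HasNoSubtorus Ω KΩ) (u : KΩ ⟶ B) [IsMonHom u]
    [Surjective u.left] : Red.HasNoSubtorus Ω B := by
  intro T _ i' _ _ hT
  haveI : IsSeparated B.hom := GrpSchLib.AntiAffine.isSeparated_grp B
  haveI : IsAffineHom KΩ.hom := isAffineHom_of_isAffine _
  obtain ⟨hTa, hTl, hTs, hTc⟩ := Deform.TorusBasic.props hT
  haveI := hTa; haveI := hTl
  haveI : IsAffineHom T.hom := isAffineHom_of_isAffine _
  haveI : IsAffineHom (KΩ ⊗ T).hom := by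
    rw [Over.tensorObj_hom]
    haveI : IsAffineHom (pullback.fst KΩ.hom T.hom) := MorphismProperty.pullback_fst _ _ inferInstance
    infer_instance
  haveI : LocallyOfFiniteType (KΩ ⊗ T).hom := by rw [Over.tensorObj_hom]; infer_instance
  haveI : IsMonHom (snd KΩ T) := WittEndoLib.isMonHom_of_mul _ fun Z a b => by rw [← MonObj.mul_comp]
  haveI : IsMonHom (fst KΩ T) := WittEndoLib.isMonHom_of_mul _ fun Z a b => by rw [← MonObj.mul_comp]
  let δ : KΩ ⊗ T ⟶ B := (fst KΩ T ≫ u) * (snd KΩ T ≫ i')⁻¹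
  haveI : IsMonHom δ := isMonHom_mul_inv _ _
  obtain ⟨M, gM, iM, hiMm, hiMc, -, hiM⟩ := GrpSchLib.exists_kernel δ
  haveI := hiMm; haveI := hiMc
  haveI : IsAffine (KΩ ⊗ T).left := isAffine_of_isAffineHom (KΩ ⊗ T).hom
  haveI : IsAffine M.left := isAffine_of_isAffineHom iM.left
  haveI : IsAffineHom M.hom := isAffineHom_of_isAffine _
  haveI : LocallyOfFiniteType M.hom := by rw [← Over.w iM]; infer_instance
  have hM' : IsPullback iM (toUnit M) δ η[B] := hiM
  have hMeq : (iM ≫ fst KΩ T) ≫ u = (iM ≫ snd KΩ T) ≫ i' := by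
    have h := hM'.w
    rw [MonObj.comp_mul, GrpObj.comp_inv, MonObj.one_eq_one, MonObj.comp_one, mul_inv_eq_one] at h
    simpa only [Category.assoc] using h
  let v : M ⟶ T := iM ≫ snd KΩ T
  haveI : IsMonHom v := inferInstanceAs (IsMonHom (iM ≫ snd KΩ T))
  haveI : Surjective v.left := by
    haveI : QuasiCompact v.left := by
      haveI : QuasiCompact (v.left ≫ T.hom) := by rw [Over.w v]; infer_instance
      exact QuasiCompact.of_comp v.left T.hom
    have hcl : IsClosed (Set.range v.left) := (QuotImage.isClosed_range_and_dim v).1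
    refine ⟨fun z => ?_⟩
    by_contra hz
    obtain ⟨t, ht⟩ := Chev.exists_pt (G := T) (S := (Set.range v.left)ᶜ)
      ⟨z, fun ⟨a, ha⟩ => hz ⟨a, ha⟩⟩ hcl.isOpen_compl.isLocallyClosed
    obtain ⟨a, ha⟩ := Borel.exists_pt_over u (t ≫ i')
    have h : lift a t ≫ δ = toUnit _ ≫ η[B] := by
      rw [MonObj.comp_mul, GrpObj.comp_inv, lift_fst_assoc, lift_snd_assoc, ha, mul_inv_cancel]
      rfl
    refine ht ⟨Chev.pimg (hM'.lift _ _ h), ?_⟩
    rw [← Chev.pimg_comp, ← Category.assoc, hM'.lift_fst, lift_snd]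
  have hMn : Red.HasNoSubtorus Ω M := fun U _ a _ _ hU => by
    haveI : Mono iM := (Over.forget _).mono_of_mono_map (inferInstanceAs (Mono iM.left))
    let w : U ⟶ KΩ := a ≫ iM ≫ fst KΩ T
    haveI : Mono w := ⟨fun {Z} b₁ b₂ hb => by
      have hb' : b₁ ≫ a ≫ iM ≫ fst KΩ T = b₂ ≫ a ≫ iM ≫ fst KΩ T := hb
      rw [← cancel_mono a, ← cancel_mono iM]
      apply CartesianMonoidalCategory.hom_ext
      · simpa only [Category.assoc] using hb'
      · rw [← cancel_mono i']
        have h2 := congrArg (· ≫ u) hb'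
        simp only [Category.assoc] at h2 hMeq ⊢
        rwa [hMeq] at h2⟩
    haveI : IsMonHom w := inferInstanceAs (IsMonHom (a ≫ iM ≫ fst KΩ T))
    exact hKn U w hU
  exact isTrivialGrp_of_surjective hMn hT v

theorem quotient_props
    (G : Over (Spec (CommRingCat.of k))) [GrpObj G] [LocallyOfFiniteType G.hom]
    (Gbar : Over (Spec (CommRingCat.of k'))) [GrpObj Gbar] [LocallyOfFiniteType Gbar.hom]
    (q : Red.bc (yK k k') G ⟶ Gbar) [IsMonHom q] [Surjective q.left] [Flat q.left]
    (R : Over (Spec (CommRingCat.of k))) [GrpObj R] (qR : Red.bc (yK k k') R ⟶ Gbar) [IsMonHom qR]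
    (hR : WeilRes.IsWeilRes (yK k k') Gbar R qR)
    (H : Over (Spec (CommRingCat.of k))) [GrpObj H] (j : H ⟶ R) [IsMonHom j]
    (p : G ⟶ H) [IsMonHom p] (hfac : p ≫ j = hR.lift G q) [IsCommMonObj Gbar]
    (Q : Over (Spec (CommRingCat.of k))) [GrpObj Q] (π : R ⟶ Q) [IsMonHom π] (hQ : RedSub.IsQuotient j π) :
    IsAffine Q.left ∧ ∀ (Ω : Type u) [Field Ω] [IsAlgClosed Ω] (τ : Spec (CommRingCat.of Ω) ⟶ Spec (CommRingCat.of k)),
      Red.HasNoSubtorus Ω (Red.bc τ Q) := by
  let f := yK k k'
  haveI : IsFinite f := (IsFinite.SpecMap_iff _).2 (RingHom.finite_algebraMap.2 ‹_›)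
  haveI : Flat f := Flat.SpecMap_iff.2 (RingHom.flat_algebraMap_iff.2 inferInstance)
  haveI : LocallyOfFinitePresentation Gbar.hom := inferInstance
  haveI : LocallyOfFinitePresentation R.hom := WeilAff.locallyOfFinitePresentation_weilRes f hR
  haveI : LocallyOfFiniteType R.hom := inferInstance
  obtain ⟨hπs, hπf, hπl, hπsq⟩ := hQ
  haveI := hπs; haveI := hπf; haveI := hπl
  haveI : LocallyOfFiniteType (π.left ≫ Q.hom) := by rw [Over.w π]; infer_instance
  haveI : LocallyOfFiniteType Q.hom := SrcDescent.locallyOfFiniteType_of_fppf_comp π.left Q.hom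
  let R' := Red.bc f R
  let Q' := Red.bc f Q
  haveI : LocallyOfFiniteType R'.hom := inferInstanceAs (LocallyOfFiniteType (pullback.snd R.hom f))
  haveI : LocallyOfFiniteType Q'.hom := inferInstanceAs (LocallyOfFiniteType (pullback.snd Q.hom f))
  haveI : IsSeparated Gbar.hom := GrpSchLib.AntiAffine.isSeparated_grp Gbar
  obtain ⟨K, gK, iK, hiKm, hiKc, -, hK⟩ := GrpSchLib.exists_kernel qR
  haveI := hiKm; haveI := hiKc
  haveI : LocallyOfFiniteType K.hom := by rw [← Over.w iK]; infer_instance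
  haveI : IsAffine K.left := isAffine hR hK
  let π' : R' ⟶ Q' := (Over.pullback f).map π
  haveI : IsMonHom π' := inferInstanceAs (IsMonHom ((Over.pullback f).map π))
  haveI : Flat π'.left := MorphismProperty.of_isPullback (P := @Flat) (bc_map_isPullback f π) hπf
  haveI : Surjective π'.left := MorphismProperty.of_isPullback (P := @Surjective) (bc_map_isPullback f π) hπs
  let φ : K ⟶ Q' := iK ≫ π'
  haveI : IsMonHom φ := inferInstanceAs (IsMonHom (iK ≫ π'))
  -- the subgroup dies in the quotient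
  have hjπ : j ≫ π = 1 := by
    have h := congrArg (lift (1 : H ⟶ R) (𝟙 H) ≫ ·) hπsq.w
    rw [← Category.assoc, lift_fst, MonObj.one_comp, ← Category.assoc, ← Category.assoc, lift_whiskerLeft,
      Category.id_comp, ← Hom.mul_def, _root_.one_mul] at h
    exact h.symm
  let P := pullback qR q
  let x : P ⟶ R' := pullback.fst qR q
  let y : P ⟶ R' := pullback.snd qR q ≫ (Over.pullback f).map (hR.lift G q)
  have hlq : (Over.pullback f).map (hR.lift G q) ≫ qR = q := (Equiv.ofBijective _ (hR G)).apply_symm_apply q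
  have hyq : y ≫ qR = x ≫ qR := by rw [Category.assoc, hlq]; exact pullback.condition.symm
  have hyπ : y ≫ π' = 1 := by
    rw [Category.assoc, ← Functor.map_comp, ← hfac, Category.assoc, hjπ, MonObj.comp_one, Functor.map_one,
      MonObj.comp_one]
  have hk : IsPullback iK (toUnit K) qR η[Gbar] := hK
  let m : P ⟶ K := hk.lift (x * y⁻¹) (toUnit P) (by
    rw [MonObj.mul_comp, GrpObj.inv_comp, hyq, mul_inv_cancel]; rfl)
  have hm : m ≫ φ = x ≫ π' := by
    show m ≫ iK ≫ π' = _
    rw [← Category.assoc, hk.lift_fst, MonObj.mul_comp, GrpObj.inv_comp, hyπ, inv_one, _root_.mul_one]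
  haveI hxf : Flat x.left := MorphismProperty.of_isPullback (P := @Flat)
    (((IsPullback.of_hasPullback qR q).map (Over.forget _)).flip) ‹Flat q.left›
  haveI hxs : Surjective x.left := MorphismProperty.of_isPullback (P := @Surjective)
    (((IsPullback.of_hasPullback qR q).map (Over.forget _)).flip) ‹Surjective q.left›
  haveI : Flat (x.left ≫ π'.left) := inferInstance
  haveI : Surjective (x.left ≫ π'.left) := inferInstance
  haveI : Surjective φ.left := by
    haveI : Surjective (m.left ≫ φ.left) := by rw [← Over.comp_left, hm, Over.comp_left]; infer_instance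
    exact Surjective.of_comp m.left φ.left
  haveI : CompactSpace Q'.left := φ.left.surjective.compactSpace φ.left.continuous
  haveI : QuasiCompact Q'.hom := (quasiCompact_iff_compactSpace (f := Q'.hom)).2 ‹_›
  obtain ⟨J, gJ, qJ, c, hqJm, hcm, hJa, hcc, hJl, hqJs, hqc⟩ := AntiAffineParts.exists_affine_image φ
  haveI := hcc; haveI := hJa
  haveI : IsLocallyNoetherian Q'.left := LocallyOfFiniteType.isLocallyNoetherian Q'.hom
  haveI : IsIso c.left := by
    have e : (m ≫ qJ).left ≫ c.left = x.left ≫ π'.left := by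
      rw [← Over.comp_left, Category.assoc, hqc, hm, Over.comp_left]
    haveI : Flat ((m ≫ qJ).left ≫ c.left) := by rw [e]; infer_instance
    haveI : Surjective ((m ≫ qJ).left ≫ c.left) := by rw [e]; infer_instance
    exact isIso_of_closed_factor (m ≫ qJ).left c.left
  haveI : IsAffine Q'.left := IsAffine.of_isIso (inv c.left)
  haveI : IsAffineHom Q.hom := Luna.isAffineHom_of_bc f Q
  refine ⟨isAffine_of_isAffineHom Q.hom, ?_⟩
  -- commutativity
  haveI : IsCommMonObj R := by
    refine ⟨?_⟩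
    have h : snd R R * fst R R = fst R R * snd R R := (hR _).1 (by
      rw [WeilRes.restr_mul, WeilRes.restr_mul]
      exact mul_comm _ _)
    rw [show μ[R] = fst R R * snd R R by rw [Hom.mul_def, lift_fst_snd, Category.id_comp], MonObj.comp_mul,
      braiding_hom_fst, braiding_hom_snd, h]
  haveI : IsCommMonObj Q := by
    refine ⟨?_⟩
    haveI : Flat (π ⊗ₘ π).left := GrpSchLib.RankOne.property_tensorHom π π @Flat hπf hπf
    haveI : Surjective (π ⊗ₘ π).left := GrpSchLib.RankOne.property_tensorHom π π @Surjective hπs hπs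
    haveI : Epi ((Over.forget _).map (π ⊗ₘ π)) := Flat.epi_of_flat_of_surjective (π ⊗ₘ π).left
    haveI : Epi (π ⊗ₘ π) := (Over.forget _).epi_of_epi_map inferInstance
    rw [show μ[Q] = fst Q Q * snd Q Q by rw [Hom.mul_def, lift_fst_snd, Category.id_comp], MonObj.comp_mul,
      braiding_hom_fst, braiding_hom_snd, ← cancel_epi (π ⊗ₘ π), MonObj.comp_mul, MonObj.comp_mul, tensorHom_fst,
      tensorHom_snd, ← MonObj.mul_comp, ← MonObj.mul_comp, mul_comm]
  intro Ω _ _ τ T _ i _ _ hT
  obtain ⟨ω, rfl⟩ := Spec.map_surjective τ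
  letI : Algebra k Ω := ω.hom.toAlgebra
  let ψ : k' →ₐ[k] Ω := IsAlgClosed.lift
  let τ₀ : Spec (CommRingCat.of Ω) ⟶ Spec (CommRingCat.of k') := Spec.map (CommRingCat.ofHom ψ.toRingHom)
  have hτ : τ₀ ≫ f = Spec.map ω := by
    show Spec.map _ ≫ Spec.map _ = _
    rw [← Spec.map_comp]
    exact congrArg Spec.map (CommRingCat.hom_ext ψ.comp_algebraMap)
  obtain ⟨e₁⟩ := GrpSchLib.MultTypeBC.bc_congr hτ.symm Q
  obtain ⟨e₂⟩ := GrpSchLib.MultTypeBC.bc_bc τ₀ f Q
  let B := Red.bc τ₀ Q'
  let eQ := e₁ ≪≫ e₂.symm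
  let i' : T ⟶ B := i ≫ eQ.hom.hom.hom
  haveI : IsMonHom eQ.hom.hom.hom := eQ.hom.hom.isMonHom_hom
  haveI : IsIso eQ.hom.hom.hom := ((Grp.forget _).mapIso eQ).isIso_hom
  haveI : IsMonHom i' := inferInstanceAs (IsMonHom (i ≫ eQ.hom.hom.hom))
  haveI : Mono i' := inferInstanceAs (Mono (i ≫ eQ.hom.hom.hom))
  let KΩ := Red.bc τ₀ K
  let u : KΩ ⟶ B := (Over.pullback τ₀).map φ
  haveI : IsMonHom u := inferInstanceAs (IsMonHom ((Over.pullback τ₀).map φ))
  haveI : Surjective u.left := MorphismProperty.of_isPullback (P := @Surjective) (bc_map_isPullback τ₀ φ) inferInstance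
  haveI : IsCommMonObj Q' := inferInstance
  haveI : IsCommMonObj B := inferInstance
  haveI : IsSeparated B.hom := GrpSchLib.AntiAffine.isSeparated_grp B
  haveI : LocallyOfFiniteType KΩ.hom := inferInstanceAs (LocallyOfFiniteType (pullback.snd K.hom τ₀))
  haveI : IsAffineHom KΩ.hom := by
    haveI : IsAffineHom K.hom := isAffineHom_of_isAffine _
    exact inferInstanceAs (IsAffineHom (pullback.snd K.hom τ₀))
  haveI : LocallyOfFiniteType B.hom := inferInstanceAs (LocallyOfFiniteType (pullback.snd Q'.hom τ₀))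
  haveI : IsAffine KΩ.left := isAffine_of_isAffineHom KΩ.hom
  exact hasNoSubtorus_of_surjective (hasNoSubtorus hR hK Ω τ₀) u T i' hT

end Groth.Agent.Deform.WeilKer
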